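import Mathlib

universe u

open MvPolynomial

namespace Groth.Agent.Lib.Helper5.MonoPD

variable {σ : Type*} [DecidableEq σ]

theorem le_of_add_single_le {a b : σ} {β : σ →₀ ℕ}
    (h : Finsupp.single a 1 + Finsupp.single b 1 ≤ β) :
    1 ≤ β a ∧ 1 ≤ β b ∧ (a = b → 2 ≤ β a) := by
  have ha := h a
  have hb := h b
  simp only [Finsupp.coe_add, Pi.add_apply, Finsupp.single_apply] at ha hb
  refine ⟨?_, ?_, ?_⟩
  · simp at ha; omega
  · simp at hb; omega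
  · rintro rfl; simp at ha; omega

theorem add_single_le_of_ne {a b : σ} {β : σ →₀ ℕ} (hab : a ≠ b) (ha : 1 ≤ β a) (hb : 1 ≤ β b) :
    Finsupp.single a 1 + Finsupp.single b 1 ≤ β := by
  intro t
  simp only [Finsupp.coe_add, Pi.add_apply, Finsupp.single_apply]
  by_cases h1 : a = t
  · subst h1
    rw [if_pos rfl, if_neg (Ne.symm hab)]
    omega
  · rw [if_neg h1]
    by_cases h2 : b = t
    · subst h2; rw [if_pos rfl]; omega
    · rw [if_neg h2]; omega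

theorem add_single_le_of_two {a : σ} {β : σ →₀ ℕ} (ha : 2 ≤ β a) :
    Finsupp.single a 1 + Finsupp.single a 1 ≤ β := by
  rw [← Finsupp.single_add, Finsupp.single_le_iff]
  exact ha


section main
variable (n k0 e1 e2 : ℕ)

/-- exponents of the generators of the left-hand side. -/
def EL : Set (Fin (n + 1) →₀ ℕ) :=
  {s | (∃ p q : Fin (n + 1), e1 ≤ p.val ∧ p.val ≤ e2 ∧ e1 ≤ q.val ∧ q.val ≤ e2 ∧
        s = Finsupp.single p 1 + Finsupp.single q 1) ∨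
      (∃ p q m : Fin (n + 1), e1 ≤ p.val ∧ p.val < q.val ∧ q.val ≤ e2 ∧
        m.val + k0 = n + 1 + q.val ∧ s = Finsupp.single p 1 + Finsupp.single m 1)}

/-- exponents of the generators of the `j`-th component. -/
def ER (j : Fin (n + 1)) : Set (Fin (n + 1) →₀ ℕ) :=
  {s | (∃ i : Fin (n + 1), e1 ≤ i.val ∧ i.val ≤ e2 ∧ i ≠ j ∧ s = Finsupp.single i 1) ∨
      s = Finsupp.single j 2 ∨
      (∃ q m : Fin (n + 1), j.val < q.val ∧ q.val ≤ e2 ∧ m.val + k0 = n + 1 + q.val ∧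
        s = Finsupp.single m 1)}

theorem combi (hk : 1 ≤ k0) (hn : 2 * k0 ≤ n + 1) (he : e1 ≤ e2) (he2 : e2 + 1 ≤ k0)
    (β : Fin (n + 1) →₀ ℕ) :
    (∃ s ∈ EL n k0 e1 e2, s ≤ β) ↔
      ∀ j : Fin (n + 1), e1 ≤ j.val ∧ j.val ≤ e2 → ∃ s ∈ ER n k0 e1 e2 j, s ≤ β := by
  constructor
  · rintro ⟨s, hs, hsβ⟩ j ⟨hj1, hj2⟩
    rcases hs with ⟨p, q, hp1, hp2, hq1, hq2, rfl⟩ | ⟨p, q, m, hp1, hpq, hq2, hm, rfl⟩
    · obtain ⟨hβp, hβq, hβpq⟩ := le_of_add_single_le hsβ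
      by_cases hpj : p = j
      · by_cases hqj : q = j
        · refine ⟨Finsupp.single j 2, Or.inr (Or.inl rfl), ?_⟩
          rw [Finsupp.single_le_iff]
          have := hβpq (hpj.trans hqj.symm)
          rwa [hpj] at this
        · refine ⟨Finsupp.single q 1, Or.inl ⟨q, hq1, hq2, hqj, rfl⟩, ?_⟩
          rw [Finsupp.single_le_iff]; exact hβq
      · refine ⟨Finsupp.single p 1, Or.inl ⟨p, hp1, hp2, hpj, rfl⟩, ?_⟩
        rw [Finsupp.single_le_iff]; exact hβp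
    · obtain ⟨hβp, hβm, -⟩ := le_of_add_single_le hsβ
      by_cases hpj : p = j
      · refine ⟨Finsupp.single m 1, Or.inr (Or.inr ⟨q, m, ?_, hq2, hm, rfl⟩), ?_⟩
        · rw [← hpj]; exact hpq
        · rw [Finsupp.single_le_iff]; exact hβm
      · refine ⟨Finsupp.single p 1, Or.inl ⟨p, hp1, by omega, hpj, rfl⟩, ?_⟩
        rw [Finsupp.single_le_iff]; exact hβp
  · intro h
    by_cases hT : ∃ p : Fin (n + 1), e1 ≤ p.val ∧ p.val ≤ e2 ∧ 1 ≤ β p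
    · obtain ⟨p, hp1, hp2, hβp⟩ := hT
      obtain ⟨s, hs, hsβ⟩ := h p ⟨hp1, hp2⟩
      rcases hs with ⟨i, hi1, hi2, hip, rfl⟩ | rfl | ⟨q, m, hpq, hq2, hm, rfl⟩
      · rw [Finsupp.single_le_iff] at hsβ
        exact ⟨_, Or.inl ⟨p, i, hp1, hp2, hi1, hi2, rfl⟩, add_single_le_of_ne (Ne.symm hip) hβp hsβ⟩
      · rw [Finsupp.single_le_iff] at hsβ
        exact ⟨_, Or.inl ⟨p, p, hp1, hp2, hp1, hp2, rfl⟩, add_single_le_of_two hsβ⟩
      · rw [Finsupp.single_le_iff] at hsβ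
        have hpm : p ≠ m := by
          intro hpm
          have : p.val = m.val := congrArg Fin.val hpm
          omega
        exact ⟨_, Or.inr ⟨p, q, m, hp1, hpq, hq2, hm, rfl⟩, add_single_le_of_ne hpm hβp hsβ⟩
    · exfalso
      push Not at hT
      have he2n : e2 < n + 1 := by omega
      obtain ⟨s, hs, hsβ⟩ := h ⟨e2, he2n⟩ ⟨he, le_rfl⟩
      rcases hs with ⟨i, hi1, hi2, -, rfl⟩ | rfl | ⟨q, m, hpq, hq2, -, rfl⟩
      · rw [Finsupp.single_le_iff] at hsβ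
        have := hT i hi1 hi2
        omega
      · rw [Finsupp.single_le_iff] at hsβ
        have := hT ⟨e2, he2n⟩ he le_rfl
        omega
      · simp at hpq
        omega

end main

theorem X_mul_X_eq {R : Type*} [CommSemiring R] {σ : Type*} (p q : σ) :
    (X p * X q : MvPolynomial σ R) = monomial (Finsupp.single p 1 + Finsupp.single q 1) 1 := by
  rw [X, X, monomial_mul, mul_one]

theorem main (k : Type u) [Field k]
    (n k0 e1 e2 : ℕ) (hk : 1 ≤ k0) (hn : 2 * k0 ≤ n + 1) (he : e1 ≤ e2) (he2 : e2 + 1 ≤ k0) :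
    Ideal.span ({f : MvPolynomial (Fin (n + 1)) k | ∃ p q : Fin (n + 1), e1 ≤ p.val ∧ p.val ≤ e2 ∧ e1 ≤ q.val ∧ q.val ≤ e2 ∧
        f = MvPolynomial.X p * MvPolynomial.X q} ∪
      {f : MvPolynomial (Fin (n + 1)) k | ∃ p q m : Fin (n + 1), e1 ≤ p.val ∧ p.val < q.val ∧ q.val ≤ e2 ∧
        m.val + k0 = n + 1 + q.val ∧ f = MvPolynomial.X p * MvPolynomial.X m}) =
    ⨅ j : Fin (n + 1), ⨅ (_ : e1 ≤ j.val ∧ j.val ≤ e2),
      Ideal.span ({f : MvPolynomial (Fin (n + 1)) k | ∃ i : Fin (n + 1), e1 ≤ i.val ∧ i.val ≤ e2 ∧ i ≠ j ∧ f = MvPolynomial.X i} ∪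
        {MvPolynomial.X j ^ 2} ∪
        {f : MvPolynomial (Fin (n + 1)) k | ∃ q m : Fin (n + 1), j.val < q.val ∧ q.val ≤ e2 ∧ m.val + k0 = n + 1 + q.val ∧
          f = MvPolynomial.X m}) := by
  have hL : ({f : MvPolynomial (Fin (n + 1)) k | ∃ p q : Fin (n + 1), e1 ≤ p.val ∧ p.val ≤ e2 ∧ e1 ≤ q.val ∧ q.val ≤ e2 ∧
        f = MvPolynomial.X p * MvPolynomial.X q} ∪
      {f : MvPolynomial (Fin (n + 1)) k | ∃ p q m : Fin (n + 1), e1 ≤ p.val ∧ p.val < q.val ∧ q.val ≤ e2 ∧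
        m.val + k0 = n + 1 + q.val ∧ f = MvPolynomial.X p * MvPolynomial.X m}) =
      (fun s => monomial s (1 : k)) '' EL n k0 e1 e2 := by
    ext f
    constructor
    · rintro (⟨p, q, h1, h2, h3, h4, rfl⟩ | ⟨p, q, m, h1, h2, h3, h4, rfl⟩)
      · exact ⟨_, Or.inl ⟨p, q, h1, h2, h3, h4, rfl⟩, (X_mul_X_eq p q).symm⟩
      · exact ⟨_, Or.inr ⟨p, q, m, h1, h2, h3, h4, rfl⟩, (X_mul_X_eq p m).symm⟩
    · rintro ⟨s, (⟨p, q, h1, h2, h3, h4, rfl⟩ | ⟨p, q, m, h1, h2, h3, h4, rfl⟩), rfl⟩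
      · exact Or.inl ⟨p, q, h1, h2, h3, h4, (X_mul_X_eq p q).symm⟩
      · exact Or.inr ⟨p, q, m, h1, h2, h3, h4, (X_mul_X_eq p m).symm⟩
  have hR : ∀ j : Fin (n + 1),
      ({f : MvPolynomial (Fin (n + 1)) k | ∃ i : Fin (n + 1), e1 ≤ i.val ∧ i.val ≤ e2 ∧ i ≠ j ∧ f = MvPolynomial.X i} ∪
        {MvPolynomial.X j ^ 2} ∪
        {f : MvPolynomial (Fin (n + 1)) k | ∃ q m : Fin (n + 1), j.val < q.val ∧ q.val ≤ e2 ∧ m.val + k0 = n + 1 + q.val ∧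
          f = MvPolynomial.X m}) = (fun s => monomial s (1 : k)) '' ER n k0 e1 e2 j := by
    intro j
    ext f
    constructor
    · rintro ((⟨i, h1, h2, h3, rfl⟩ | hf) | ⟨q, m, h1, h2, h3, rfl⟩)
      · exact ⟨_, Or.inl ⟨i, h1, h2, h3, rfl⟩, rfl⟩
      · rw [Set.mem_singleton_iff] at hf
        subst hf
        exact ⟨_, Or.inr (Or.inl rfl), (X_pow_eq_monomial).symm⟩
      · exact ⟨_, Or.inr (Or.inr ⟨q, m, h1, h2, h3, rfl⟩), rfl⟩
    · rintro ⟨s, (⟨i, h1, h2, h3, rfl⟩ | rfl | ⟨q, m, h1, h2, h3, rfl⟩), rfl⟩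
      · exact Or.inl (Or.inl ⟨i, h1, h2, h3, rfl⟩)
      · exact Or.inl (Or.inr (by rw [Set.mem_singleton_iff]; exact (X_pow_eq_monomial).symm))
      · exact Or.inr ⟨q, m, h1, h2, h3, rfl⟩
  rw [hL]
  simp_rw [hR]
  ext f
  rw [mem_ideal_span_monomial_image]
  simp only [Ideal.mem_iInf]
  simp_rw [mem_ideal_span_monomial_image]
  constructor
  · intro h j hj β hβ
    exact (combi n k0 e1 e2 hk hn he he2 β).1 (h β hβ) j hj
  · intro h β hβ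
    exact (combi n k0 e1 e2 hk hn he he2 β).2 fun j hj => h j hj β hβ

end Groth.Agent.Lib.Helper5.MonoPD
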